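import Cfsg.Agent.Lib.SylowFlats.Basic
import Mathlib.GroupTheory.GroupAction.Quotient

/-!
# Fixed points of Sylow subgroups and Sylow numbers of subgroups
-/

set_option autoImplicit false
set_option linter.unusedSectionVars false
set_option linter.style.haveILetI false

namespace CfsgLib.SylowFlats

open Pointwise

variable {G : Type*} [Group G] [Finite G] {p : ℕ} [Fact p.Prime]

theorem ncard_flat {H : Subgroup G} {P : Sylow p G} (hP : (P : Subgroup G) ≤ H) :
    (flat H : Set (Sylow p G)).ncard = Nat.card (Sylow p H) := by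
  rw [← Nat.card_coe_set_eq]
  refine Nat.card_congr (Equiv.ofBijective
    (fun Q : (flat H : Set (Sylow p G)) => Q.1.subtype Q.2) ⟨?_, ?_⟩)
  · intro Q Q' h
    exact Subtype.ext (Sylow.subtype_injective h)
  · intro R
    obtain ⟨h, hh⟩ := MulAction.exists_smul_eq H (P.subtype hP) R
    refine ⟨⟨(h : G) • P, smul_mem_flat h.2 hP⟩, ?_⟩
    rw [← hh]
    exact (Sylow.smul_subtype hP h).symm

/-- Sylow numbers of proper subgroups of a group generated by its `p`-elements. -/
theorem sylow_number_le (hgen : Subgroup.closure {g : G | ∃ k : ℕ, orderOf g = p ^ k} = ⊤)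
    (H : Subgroup G) (hH : H ≠ ⊤) (P : Sylow p G) (hP : (P : Subgroup G) ≤ H) :
    (2 * p - 1) * Nat.card (Sylow p ↥H) ≤ (p - 1) * Nat.card (Sylow p G) := by
  classical
  haveI := Fintype.ofFinite (Sylow p G)
  set A : Set (Sylow p G) := flat H with hA
  set Y := (Set.toFinite (MulAction.orbit G A)).toFinset with hY
  have hmemY : ∀ B, B ∈ Y ↔ ∃ g : G, g • A = B := fun B => by
    rw [hY, Set.Finite.mem_toFinset, MulAction.mem_orbit_iff]
  have hAne : A.Nonempty := ⟨P, hP⟩
  have hAtop : A ≠ Set.univ := by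
    intro h
    apply hH
    rw [eq_top_iff, ← hgen, Subgroup.closure_le]
    rintro g ⟨k, hk⟩
    have hg : IsPGroup p (Subgroup.zpowers g) :=
      IsPGroup.of_card (n := k) (by rw [Nat.card_zpowers, hk])
    obtain ⟨Q, hQ⟩ := hg.exists_le_sylow
    have : Q ∈ A := by rw [h]; exact Set.mem_univ _
    exact this (hQ (Subgroup.mem_zpowers g))
  have key : ∀ R : Sylow p G, 0 ≤ ∑ B ∈ Y, wt R B := by
    intro R
    have := deficit_nonneg_univ Y ?_ ?_ ?_ ?_ (fun _ => 1) (fun _ _ _ => le_rfl) R
    · simpa using this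
    · intro B hB
      obtain ⟨g, rfl⟩ := (hmemY B).1 hB
      exact IsFlat.smul ⟨H, rfl⟩ g
    · intro B hB
      obtain ⟨g, rfl⟩ := (hmemY B).1 hB
      exact hAne.smul_set
    · intro B hB h
      obtain ⟨g, rfl⟩ := (hmemY B).1 hB
      exact hAtop (by rw [← inv_smul_smul g A, h, Set.smul_set_univ])
    · intro g B hB
      obtain ⟨g', rfl⟩ := (hmemY B).1 hB
      exact (hmemY _).2 ⟨g * g', mul_smul g g' A⟩
  have hsum : ∀ B ∈ Y, ∑ R : Sylow p G, wt R B =
      ((p : ℤ) - 1) * Nat.card (Sylow p G) - (2 * (p : ℤ) - 1) * Nat.card (Sylow p ↥H) := by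
    intro B hB
    obtain ⟨g, rfl⟩ := (hmemY B).1 hB
    have hc : (Finset.univ.filter (fun R : Sylow p G => R ∈ g • A)).card = Nat.card (Sylow p ↥H) := by
      rw [← ncard_flat hP, ← hA, ← Set.ncard_smul_set g A, ← Set.ncard_coe_finset]
      congr 1
      ext R
      simp
    simp only [wt, Finset.sum_sub_distrib]
    rw [← Finset.sum_filter]
    simp only [Finset.sum_const, hc, Finset.card_univ, ← Nat.card_eq_fintype_card, nsmul_eq_mul]
    ring
  have h0 : 0 ≤ ∑ B ∈ Y, ∑ R : Sylow p G, wt R B := by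
    rw [Finset.sum_comm]
    exact Finset.sum_nonneg fun R _ => key R
  rw [Finset.sum_congr rfl hsum, Finset.sum_const, nsmul_eq_mul] at h0
  have hpos : (0 : ℤ) < Y.card := by
    exact_mod_cast Finset.card_pos.2 ⟨A, (hmemY A).2 ⟨1, one_smul G A⟩⟩
  have h1 := nonneg_of_mul_nonneg_right h0 hpos
  have hp := (Fact.out : p.Prime).two_le
  zify [show 1 ≤ 2 * p by omega, show 1 ≤ p by omega]
  linarith

variable {Ω : Type*} [MulAction G Ω] [Finite Ω]

open Classical in
/-- Fixed points of a Sylow subgroup when no point is fixed by all Sylow subgroups. -/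
theorem fixed_le (hmove : ∀ x : Ω, ∃ Q : Sylow p G, ¬ (Q : Subgroup G) ≤ MulAction.stabilizer G x)
    (P : Sylow p G) :
    (2 * p - 1) * Nat.card {x : Ω // (P : Subgroup G) ≤ MulAction.stabilizer G x} ≤
      (p - 1) * Nat.card Ω := by
  classical
  haveI := Fintype.ofFinite Ω
  let a : Ω → Set (Sylow p G) := fun x => flat (MulAction.stabilizer G x)
  have hsm : ∀ (g : G) (x : Ω), a (g • x) = g • a x := by
    intro g x
    ext Q
    rw [Set.mem_smul_set_iff_inv_smul_mem]
    show (Q : Subgroup G) ≤ _ ↔ ((g⁻¹ • Q : Sylow p G) : Subgroup G) ≤ _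
    rw [Sylow.coe_subgroup_smul, MulAction.stabilizer_smul_eq_stabilizer_map_conj, map_inv,
      ← Subgroup.subset_pointwise_smul_iff]
    rfl
  set X := (Finset.univ : Finset Ω).filter (fun x => (a x).Nonempty) with hX
  set Y := X.image a with hY
  let w : Set (Sylow p G) → ℕ := fun B => (X.filter (fun x => a x = B)).card
  have hXsm : ∀ (g : G) (x : Ω), x ∈ X → g • x ∈ X := by
    intro g x hx
    rw [hX, Finset.mem_filter] at hx ⊢
    exact ⟨Finset.mem_univ _, by rw [hsm]; exact hx.2.smul_set⟩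
  have key : 0 ≤ ∑ B ∈ Y, (w B : ℤ) * wt P B := by
    refine deficit_nonneg_univ Y (fun B hB => ?_) (fun B hB => ?_) (fun B hB h => ?_)
      (fun g B hB => ?_) w (fun g B hB => ?_) P
    · obtain ⟨x, -, rfl⟩ := Finset.mem_image.1 hB
      exact ⟨_, rfl⟩
    · obtain ⟨x, hx, rfl⟩ := Finset.mem_image.1 hB
      exact (Finset.mem_filter.1 hx).2
    · obtain ⟨x, -, rfl⟩ := Finset.mem_image.1 hB
      obtain ⟨Q, hQ⟩ := hmove x
      exact hQ (show Q ∈ a x by rw [h]; exact Set.mem_univ _)
    · obtain ⟨x, hx, rfl⟩ := Finset.mem_image.1 hB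
      exact Finset.mem_image.2 ⟨g • x, hXsm g x hx, hsm g x⟩
    · refine Finset.card_le_card_of_injOn (fun x => g • x) (fun x hx => ?_)
        fun x _ y _ h => smul_left_cancel g h
      obtain ⟨hx', rfl⟩ := Finset.mem_filter.1 (Finset.mem_coe.1 hx)
      exact Finset.mem_coe.2 (Finset.mem_filter.2 ⟨hXsm g x hx', hsm g x⟩)
  have hfib : ∑ B ∈ Y, (w B : ℤ) * wt P B = ∑ x ∈ X, wt P (a x) := by
    rw [← Finset.sum_fiberwise_of_maps_to (t := Y) (g := a)
      (fun x hx => Finset.mem_image_of_mem _ hx)]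
    refine Finset.sum_congr rfl fun B _ => ?_
    rw [Finset.sum_congr rfl (fun x hx => by rw [(Finset.mem_filter.1 hx).2]),
      Finset.sum_const, nsmul_eq_mul]
  have hall : ∑ x ∈ X, wt P (a x) ≤ ∑ x : Ω, wt P (a x) := by
    refine Finset.sum_le_sum_of_subset_of_nonneg (Finset.subset_univ _) fun x _ hx => ?_
    rw [wt_of_not_mem fun h => hx (Finset.mem_filter.2 ⟨Finset.mem_univ _, ⟨P, h⟩⟩)]
    have := (Fact.out : p.Prime).one_lt
    omega
  have hval : ∑ x : Ω, wt P (a x) = ((p : ℤ) - 1) * Nat.card Ω -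
      (2 * (p : ℤ) - 1) * Nat.card {x : Ω // (P : Subgroup G) ≤ MulAction.stabilizer G x} := by
    simp only [wt, Finset.sum_sub_distrib]
    rw [← Finset.sum_filter,
      Nat.card_eq_fintype_card (α := {x : Ω // (P : Subgroup G) ≤ MulAction.stabilizer G x}),
      Fintype.card_subtype, show (Finset.univ.filter fun x => P ∈ a x) =
        Finset.univ.filter (fun x : Ω => (P : Subgroup G) ≤ MulAction.stabilizer G x) from rfl]
    simp only [Finset.sum_const, Finset.card_univ, ← Nat.card_eq_fintype_card, nsmul_eq_mul]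
    ring
  have hp := (Fact.out : p.Prime).two_le
  zify [show 1 ≤ 2 * p by omega, show 1 ≤ p by omega]
  linarith

open Classical in
/-- The number of orbits of a `p`-subgroup in terms of its number of fixed points. -/
theorem orbit_count_le {P : Subgroup G} (hP : IsPGroup p P) :
    p * Nat.card (MulAction.orbitRel.Quotient ↥P Ω) ≤
      Nat.card Ω + (p - 1) * Nat.card {x : Ω // P ≤ MulAction.stabilizer G x} := by
  classical
  haveI := Fintype.ofFinite Ω
  haveI := Fintype.ofFinite (MulAction.orbitRel.Quotient ↥P Ω)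
  have hcard : Nat.card Ω = ∑ q : MulAction.orbitRel.Quotient ↥P Ω,
      Nat.card q.orbit := by
    rw [Nat.card_congr (MulAction.selfEquivSigmaOrbits' ↥P Ω), Nat.card_sigma]
  set S := (Finset.univ : Finset (MulAction.orbitRel.Quotient ↥P Ω)).filter
    (fun q => Nat.card q.orbit = 1) with hS
  have hSle : S.card ≤ Nat.card {x : Ω // P ≤ MulAction.stabilizer G x} := by
    rw [Nat.card_eq_fintype_card, Fintype.card_subtype]
    refine Finset.card_le_card_of_injOn (fun q => q.out) (fun q hq => ?_)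
      fun q _ q' _ h => Quotient.out_injective h
    have h1 := (Finset.mem_filter.1 hq).2
    rw [Nat.card_coe_set_eq, Set.ncard_eq_one] at h1
    obtain ⟨b, hb⟩ := h1
    simp only [Finset.coe_filter, Finset.mem_univ, true_and, Set.mem_ofPred_eq]
    intro g hg
    rw [MulAction.orbitRel.Quotient.orbit_eq_orbit_out q Quotient.out_eq'] at hb
    have h2 : (⟨g, hg⟩ : P) • q.out ∈ MulAction.orbit ↥P q.out := ⟨⟨g, hg⟩, rfl⟩
    have h3 : q.out ∈ MulAction.orbit ↥P q.out := MulAction.mem_orbit_self _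
    rw [hb] at h2 h3
    exact h2.trans h3.symm
  have hq : ∀ q : MulAction.orbitRel.Quotient ↥P Ω,
      p ≤ Nat.card q.orbit + (if Nat.card q.orbit = 1 then p - 1 else 0) := by
    intro q
    rw [MulAction.orbitRel.Quotient.orbit_eq_orbit_out q Quotient.out_eq']
    obtain ⟨k, hk⟩ := hP.card_orbit q.out
    rw [hk]
    rcases k with _ | k
    · rw [pow_zero, if_pos rfl]
      omega
    · exact le_add_right (Nat.le_self_pow (by omega) p)
  have h1 : p * Nat.card (MulAction.orbitRel.Quotient ↥P Ω) ≤ Nat.card Ω + (p - 1) * S.card := by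
    calc p * Nat.card (MulAction.orbitRel.Quotient ↥P Ω)
        = ∑ _q : MulAction.orbitRel.Quotient ↥P Ω, p := by
          rw [Finset.sum_const, smul_eq_mul, Finset.card_univ, ← Nat.card_eq_fintype_card,
            mul_comm]
      _ ≤ ∑ q : MulAction.orbitRel.Quotient ↥P Ω,
            (Nat.card q.orbit + (if Nat.card q.orbit = 1 then p - 1 else 0)) :=
          Finset.sum_le_sum fun q _ => hq q
      _ = Nat.card Ω + (p - 1) * S.card := by
          rw [Finset.sum_add_distrib, ← hcard, ← Finset.sum_filter, Finset.sum_const, smul_eq_mul,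
            mul_comm (p - 1), hS]
  exact h1.trans (Nat.add_le_add_left (Nat.mul_le_mul_left _ hSle) _)

/-- The number of orbits of a Sylow subgroup of a transitive group. -/
theorem orbits_le [FaithfulSMul G Ω] (htrans : MulAction.IsPretransitive G Ω) (hpG : p ∣ Nat.card G)
    (P : Sylow p G) :
    (2 * p - 1) * Nat.card (MulAction.orbitRel.Quotient ↥(P : Subgroup G) Ω) ≤ p * Nat.card Ω := by
  have hmove : ∀ x : Ω, ∃ Q : Sylow p G, ¬ (Q : Subgroup G) ≤ MulAction.stabilizer G x := by
    intro x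
    by_contra h
    push Not at h
    apply P.ne_bot_of_dvd_card hpG
    rw [Subgroup.eq_bot_iff_forall]
    intro g hg
    refine eq_of_smul_eq_smul fun y : Ω => ?_
    rw [one_smul]
    obtain ⟨c, rfl⟩ := MulAction.exists_smul_eq G x y
    have h1 : c⁻¹ * g * c ∈ (P.1.map (MulAut.conj c⁻¹).toMonoidHom) :=
      ⟨g, hg, by simp⟩
    have h2 : c⁻¹ * g * c ∈ MulAction.stabilizer G x := h (c⁻¹ • P) (by
      rw [Sylow.coe_subgroup_smul]; exact h1)
    rw [MulAction.mem_stabilizer_iff, mul_smul, mul_smul, inv_smul_eq_iff] at h2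
    exact h2
  have h1 := fixed_le hmove P
  have h2 := orbit_count_le (Ω := Ω) P.isPGroup'
  have hp := (Fact.out : p.Prime).two_le
  refine Nat.le_of_mul_le_mul_left ?_ (show 0 < p by omega)
  zify [show 1 ≤ 2 * p by omega, show 1 ≤ p by omega] at h1 h2 ⊢
  have h3 := mul_le_mul_of_nonneg_left h2 (show (0 : ℤ) ≤ 2 * (p : ℤ) - 1 by omega)
  have h4 := mul_le_mul_of_nonneg_left h1 (show (0 : ℤ) ≤ (p : ℤ) - 1 by omega)
  linarith

end CfsgLib.SylowFlats
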