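import Mathlib.GroupTheory.Sylow
import Mathlib.GroupTheory.GroupAction.Pointwise
import Mathlib.Tactic

/-!
# Families of Sylow subgroups lying in subgroups

If a group acts on a family of such sets, all different from the whole, then a Sylow `p`-subgroup
fixes at most the fraction `(p - 1) / (2 p - 1)` of the family.
-/

set_option autoImplicit false
set_option linter.unusedSectionVars false
set_option linter.style.haveILetI false

namespace CfsgLib.SylowFlats

open Pointwise

variable {G : Type*} [Group G] [Finite G] {p : ℕ} [Fact p.Prime]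

/-- The Sylow subgroups contained in `K`. -/
def flat (K : Subgroup G) : Set (Sylow p G) := {Q | (Q : Subgroup G) ≤ K}

/-- The set consists of all Sylow subgroups contained in some subgroup. -/
def IsFlat (A : Set (Sylow p G)) : Prop := ∃ K : Subgroup G, A = flat K

theorem IsFlat.inter {A B : Set (Sylow p G)} (hA : IsFlat A) (hB : IsFlat B) : IsFlat (A ∩ B) := by
  obtain ⟨K, rfl⟩ := hA
  obtain ⟨L, rfl⟩ := hB
  exact ⟨K ⊓ L, Set.ext fun Q => show (Q : Subgroup G) ≤ K ∧ (Q : Subgroup G) ≤ L ↔ (Q : Subgroup G) ≤ K ⊓ L from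
    le_inf_iff.symm⟩

theorem eq_of_le {P Q : Sylow p G} {H : Subgroup G} (hH : IsPGroup p H) (hP : (P : Subgroup G) ≤ H)
    (hfix : ∀ h ∈ H, h • Q = Q) : H ≤ (Q : Subgroup G) ∧ P = Q := by
  have hle : H ≤ (Q : Subgroup G) := fun h hh =>
    ((IsPGroup.inf_normalizer_sylow hH Q).le
      ⟨hh, Sylow.smul_eq_iff_mem_normalizer.1 (hfix h hh)⟩).2
  exact ⟨hle, Sylow.ext (P.is_maximal' Q.isPGroup' (hP.trans hle)).symm⟩

theorem le_of_fix {Q : Sylow p G} {H : Subgroup G} (hH : IsPGroup p H)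
    (hfix : ∀ h ∈ H, h • Q = Q) : H ≤ (Q : Subgroup G) := fun h hh =>
  ((IsPGroup.inf_normalizer_sylow hH Q).le
    ⟨hh, Sylow.smul_eq_iff_mem_normalizer.1 (hfix h hh)⟩).2

theorem smul_mem_flat {K : Subgroup G} {g : G} (hg : g ∈ K) {Q : Sylow p G} (hQ : Q ∈ flat K) :
    g • Q ∈ flat K := by
  intro x hx
  rw [Sylow.coe_subgroup_smul] at hx
  obtain ⟨y, hy, rfl⟩ := hx
  exact K.mul_mem (K.mul_mem hg (hQ hy)) (K.inv_mem hg)

theorem smul_flat {K : Subgroup G} {g : G} (hg : g ∈ K) :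
    g • (flat K : Set (Sylow p G)) = flat K := by
  ext Q
  rw [Set.mem_smul_set_iff_inv_smul_mem]
  exact ⟨fun h => by simpa using smul_mem_flat hg h, smul_mem_flat (K.inv_mem hg)⟩

theorem IsFlat.smul_eq {A : Set (Sylow p G)} (hA : IsFlat A) {Q : Sylow p G} (hQ : Q ∈ A) {g : G}
    (hg : g ∈ (Q : Subgroup G)) : g • A = A := by
  obtain ⟨K, rfl⟩ := hA
  exact smul_flat (hQ hg)

theorem IsFlat.smul {A : Set (Sylow p G)} (hA : IsFlat A) (g : G) : IsFlat (g • A) := by
  obtain ⟨K, rfl⟩ := hA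
  refine ⟨MulAut.conj g • K, Set.ext fun Q => ?_⟩
  rw [Set.mem_smul_set_iff_inv_smul_mem]
  show ((g⁻¹ • Q : Sylow p G) : Subgroup G) ≤ K ↔ (Q : Subgroup G) ≤ MulAut.conj g • K
  rw [Sylow.coe_subgroup_smul, Subgroup.subset_pointwise_smul_iff, map_inv]

/-- A `p`-subgroup stabilizing a non-empty flat lies in a member of it. -/
theorem exists_mem_le {A : Set (Sylow p G)} (hA : IsFlat A) (hne : A.Nonempty) {H : Subgroup G}
    (hH : IsPGroup p H) (hstab : ∀ h ∈ H, h • A = A) : ∃ R ∈ A, H ≤ (R : Subgroup G) := by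
  obtain ⟨R₀, hR₀⟩ := hne
  let B : Subgroup G := R₀
  have hmem : ∀ (g : G) (Q : Sylow p G), g • A = A → Q ∈ A → g • Q ∈ A := fun g Q hg hQ => by
    rw [← hg]; exact Set.smul_mem_smul_set hQ
  letI a1 : MulAction B A :=
    { smul := fun g Q => ⟨(g : G) • Q.1, hmem _ _ (hA.smul_eq hR₀ g.2) Q.2⟩
      one_smul := fun Q => Subtype.ext (one_smul G Q.1)
      mul_smul := fun g h Q => Subtype.ext (mul_smul (g : G) h Q.1) }
  have hnd : ¬ p ∣ Nat.card A := by
    intro hd
    have hB : IsPGroup p B := R₀.isPGroup'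
    have h1 := hB.card_modEq_card_fixedPoints A
    have huniq : MulAction.fixedPoints B A = {⟨R₀, hR₀⟩} := by
      ext Q
      constructor
      · intro hQ
        exact Subtype.ext (eq_of_le (P := R₀) hB le_rfl
          (fun h hh => congrArg Subtype.val (hQ ⟨h, hh⟩))).2.symm
      · rintro rfl g
        exact Subtype.ext (Sylow.smul_eq_iff_mem_normalizer.2 (Subgroup.le_normalizer g.2))
    rw [huniq, Nat.card_eq_fintype_card (α := ({⟨R₀, hR₀⟩} : Set A)), Set.card_singleton] at h1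
    have h2 : Nat.card A ≡ 0 [MOD p] := (Nat.modEq_zero_iff_dvd).2 hd
    have h3 : p ∣ 1 := Nat.modEq_zero_iff_dvd.1 (h1.symm.trans h2)
    exact (Fact.out : p.Prime).ne_one (Nat.dvd_one.1 h3)
  letI a2 : MulAction H A :=
    { smul := fun g Q => ⟨(g : G) • Q.1, hmem _ _ (hstab _ g.2) Q.2⟩
      one_smul := fun Q => Subtype.ext (one_smul G Q.1)
      mul_smul := fun g h Q => Subtype.ext (mul_smul (g : G) h Q.1) }
  obtain ⟨Q, hQ⟩ := hH.nonempty_fixed_point_of_prime_not_dvd_card A hnd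
  exact ⟨Q.1, Q.2, le_of_fix hH fun h hh => congrArg Subtype.val (hQ ⟨h, hh⟩)⟩

/-- A Sylow subgroup stabilizing a non-empty flat belongs to it. -/
theorem mem_of_stab {A : Set (Sylow p G)} (hA : IsFlat A) (hne : A.Nonempty) {P : Sylow p G}
    (hstab : ∀ h ∈ (P : Subgroup G), h • A = A) : P ∈ A := by
  obtain ⟨R, hR, hle⟩ := exists_mem_le hA hne P.isPGroup' hstab
  rwa [Sylow.ext (P.is_maximal' R.isPGroup' hle).symm]

/-- The finite family is stable under the members of `U`. -/
def Stable (U : Set (Sylow p G)) (Y : Finset (Set (Sylow p G))) : Prop :=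
  ∀ Q ∈ U, ∀ g ∈ (Q : Subgroup G), ∀ A ∈ Y, g • A ∈ Y

open Classical in
/-- The deficit of a single point. -/
noncomputable def wt (P : Sylow p G) (A : Set (Sylow p G)) : ℤ :=
  ((p : ℤ) - 1) - if P ∈ A then 2 * (p : ℤ) - 1 else 0

theorem wt_of_mem {P : Sylow p G} {A : Set (Sylow p G)} (h : P ∈ A) : wt P A = -(p : ℤ) := by
  rw [wt, if_pos h]; ring

theorem wt_of_not_mem {P : Sylow p G} {A : Set (Sylow p G)} (h : P ∉ A) :
    wt P A = (p : ℤ) - 1 := by
  rw [wt, if_neg h]; ring

/-- The deficit of a family. -/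
noncomputable def deficit (P : Sylow p G) (Y : Finset (Set (Sylow p G))) : ℤ := ∑ A ∈ Y, wt P A

/-- The points are proper non-empty flats below `U`, and the family is stable. -/
structure Family (U : Set (Sylow p G)) (Y : Finset (Set (Sylow p G))) : Prop where
  flat : ∀ A ∈ Y, IsFlat A
  ne : ∀ A ∈ Y, A.Nonempty
  ssub : ∀ A ∈ Y, A ⊂ U
  stable : Stable U Y

/-- All families below `U` have non-negative deficit. -/
def Good (U : Set (Sylow p G)) : Prop :=
  ∀ Y : Finset (Set (Sylow p G)), Family U Y → ∀ P ∈ U, 0 ≤ deficit P Y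

theorem deficit_eq {U : Set (Sylow p G)} {Y : Finset (Set (Sylow p G))}
    (hst : Stable U Y) {P P' : Sylow p G} (hP : P ∈ U) (hP' : P' ∈ U) :
    deficit P Y = deficit P' Y := by
  classical
  let S : Subgroup G := MulAction.stabilizer G (↑Y : Set (Set (Sylow p G)))
  have hle : ∀ Q ∈ U, (Q : Subgroup G) ≤ S := by
    intro Q hQ g hg
    rw [MulAction.mem_stabilizer_iff]
    apply Set.eq_of_subset_of_ncard_le
    · rintro _ ⟨A, hA, rfl⟩
      exact hst Q hQ g hg A hA
    · rw [Set.ncard_smul_set]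
    · exact Set.toFinite _
  obtain ⟨g, hg⟩ := MulAction.exists_smul_eq S (P.subtype (hle P hP)) (P'.subtype (hle P' hP'))
  rw [Sylow.smul_subtype] at hg
  have hgP : (g : G) • P = P' := Sylow.subtype_injective hg
  have hS : (g : G) • (↑Y : Set (Set (Sylow p G))) = ↑Y := g.2
  unfold deficit
  refine Finset.sum_bij (fun A _ => (g : G) • A) (fun A hA => ?_) (fun A _ B _ h => ?_)
    (fun B hB => ?_) (fun A _ => ?_)
  · have : (g : G) • A ∈ (g : G) • (↑Y : Set (Set (Sylow p G))) := Set.smul_mem_smul_set hA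
    rwa [hS] at this
  · exact smul_left_cancel _ h
  · have hB' : B ∈ (g : G) • (↑Y : Set (Set (Sylow p G))) := by rw [hS]; exact hB
    obtain ⟨A, hA, rfl⟩ := hB'
    exact ⟨A, hA, rfl⟩
  · unfold wt
    rw [← hgP]
    by_cases h : P ∈ A
    · rw [if_pos h, if_pos (Set.smul_mem_smul_set h)]
    · rw [if_neg h, if_neg (fun h' => h (Set.smul_mem_smul_set_iff.1 h'))]

theorem weighted_nonneg {U : Set (Sylow p G)} (hg : Good U) {Y : Finset (Set (Sylow p G))}
    (hY : Family U Y) (w : Set (Sylow p G) → ℕ)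
    (hw : ∀ Q ∈ U, ∀ g ∈ (Q : Subgroup G), ∀ A ∈ Y, w A ≤ w (g • A)) {P : Sylow p G}
    (hP : P ∈ U) : 0 ≤ ∑ A ∈ Y, (w A : ℤ) * wt P A := by
  classical
  set M := Y.sup w
  have h1 : ∀ A ∈ Y, (w A : ℤ) * wt P A = ∑ k ∈ Finset.range M, if k < w A then wt P A else 0 := by
    intro A hA
    have hf : (Finset.range M).filter (fun k => k < w A) = Finset.range (w A) := by
      ext k
      simp only [Finset.mem_filter, Finset.mem_range]
      exact ⟨fun h => h.2, fun h => ⟨lt_of_lt_of_le h (Finset.le_sup hA), h⟩⟩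
    rw [← Finset.sum_filter, hf, Finset.sum_const, Finset.card_range, nsmul_eq_mul]
  rw [Finset.sum_congr rfl h1, Finset.sum_comm]
  refine Finset.sum_nonneg fun k _ => ?_
  rw [← Finset.sum_filter]
  refine hg (Y.filter fun A => k < w A) ⟨fun A hA => hY.flat A (Finset.mem_filter.1 hA).1,
    fun A hA => hY.ne A (Finset.mem_filter.1 hA).1,
    fun A hA => hY.ssub A (Finset.mem_filter.1 hA).1, fun Q hQ g hg A hA => ?_⟩ P hP
  rw [Finset.mem_filter] at hA ⊢
  exact ⟨hY.stable Q hQ g hg A hA.1, lt_of_lt_of_le hA.2 (hw Q hQ g hg A hA.1)⟩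

theorem le_card_of_moved {P : Sylow p G} {A : Set (Sylow p G)} (hA : IsFlat A) (hne : A.Nonempty)
    (hP : P ∉ A) (E : Finset (Set (Sylow p G))) (hE : ∀ g ∈ (P : Subgroup G), g • A ∈ E) :
    p ≤ E.card := by
  classical
  let H : Subgroup G := P
  let O := MulAction.orbit H A
  obtain ⟨k, hk⟩ := (P.isPGroup').card_orbit A
  have hsub : O ⊆ (↑E : Set (Set (Sylow p G))) := by
    rintro _ ⟨g, rfl⟩
    exact hE g g.2
  have hle : Nat.card O ≤ E.card := by
    rw [Nat.card_coe_set_eq, ← Set.ncard_coe_finset]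
    exact Set.ncard_le_ncard hsub (Finset.finite_toSet E)
  rcases Nat.eq_zero_or_pos k with rfl | hk0
  · exfalso
    rw [pow_zero, Nat.card_coe_set_eq, Set.ncard_eq_one] at hk
    obtain ⟨B, hB⟩ := hk
    refine hP (mem_of_stab hA hne fun g hg => ?_)
    have h1 : g • A ∈ O := ⟨⟨g, hg⟩, rfl⟩
    have h2 : A ∈ O := MulAction.mem_orbit_self A
    rw [show O = {B} from hB] at h1 h2
    exact h1.trans h2.symm
  · calc p = p ^ 1 := (pow_one p).symm
      _ ≤ p ^ k := Nat.pow_le_pow_right (Fact.out : p.Prime).pos hk0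
      _ = Nat.card O := hk.symm
      _ ≤ E.card := hle

/-- There is no chain: a family of small deficit inside `U'` containing a short set of points
with empty intersection. -/
theorem no_chain {U : Set (Sylow p G)} (IH : ∀ U' : Set (Sylow p G), U' ⊂ U → IsFlat U' → Good U') :
    ∀ (n : ℕ) (U' : Set (Sylow p G)) (Y O : Finset (Set (Sylow p G))) (j : ℕ) (P : Sylow p G),
      O.card ≤ n → IsFlat U' → U' ⊆ U →
      (U' ⊂ U ∨ ∀ A ∈ Y, ∀ B ∈ Y, A.ncard = B.ncard) → Family U' Y → O ⊆ Y → O.Nonempty →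
      (∀ R ∈ U', ∃ A ∈ O, R ∉ A) → O.card + j ≤ p → P ∈ U' →
      deficit P Y < (p : ℤ) * j → False := by
  classical
  intro n
  induction n with
  | zero =>
    intro U' Y O j P h0 _ _ _ _ _ hO
    have := hO.card_pos
    omega
  | succ n ih =>
    intro U' Y O j P hn hU' hsub hor hY hOY hO hemp hcard hP hlt
    obtain ⟨u, huO, humax⟩ := O.exists_max_image (fun A => A.ncard) hO
    have huY := hOY huO
    have huF := hY.flat u huY
    have hu' : u ⊂ U' := hY.ssub u huY
    have huU : u ⊂ U := lt_of_lt_of_le hu' hsub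
    obtain ⟨P', hP'u⟩ := hY.ne u huY
    have hP'U : P' ∈ U' := hu'.subset hP'u
    rw [deficit_eq hY.stable hP hP'U] at hlt
    have hcu : ∀ Q ∈ u, ∀ g ∈ (Q : Subgroup G), g • u = u := fun Q hQ g hg => huF.smul_eq hQ hg
    set K := Y.filter (fun A => A.ncard ≤ u.ncard) with hKdef
    have hD : 0 ≤ deficit P' (Y.filter (fun A => ¬ A.ncard ≤ u.ncard)) := by
      rcases hor with h | h
      · refine IH U' h hU' _ ⟨fun A hA => hY.flat A (Finset.mem_filter.1 hA).1,
          fun A hA => hY.ne A (Finset.mem_filter.1 hA).1,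
          fun A hA => hY.ssub A (Finset.mem_filter.1 hA).1, fun Q hQ g hg A hA => ?_⟩ P' hP'U
        rw [Finset.mem_filter] at hA ⊢
        exact ⟨hY.stable Q hQ g hg A hA.1, by rw [Set.ncard_smul_set]; exact hA.2⟩
      · rw [Finset.filter_false_of_mem fun A hA => not_not.2 (h A hA u huY).le]
        exact le_of_eq Finset.sum_empty.symm
    have hsplit : deficit P' K + deficit P' (Y.filter (fun A => ¬ A.ncard ≤ u.ncard)) =
        deficit P' Y := Finset.sum_filter_add_sum_filter_not Y _ _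
    have huK : u ∈ K := Finset.mem_filter.2 ⟨huY, le_rfl⟩
    set R := K.erase u with hRdef
    have hKu : deficit P' R + wt P' u = deficit P' K := Finset.sum_erase_add K _ huK
    rw [wt_of_mem hP'u] at hKu
    have hRlt : deficit P' R < (p : ℤ) * (j + 1) := by rw [mul_add, mul_one]; linarith
    have hRst : ∀ Q ∈ u, ∀ g ∈ (Q : Subgroup G), ∀ A ∈ R, g • A ∈ R := by
      intro Q hQ g hg A hA
      rw [hRdef, Finset.mem_erase, hKdef, Finset.mem_filter] at hA ⊢
      refine ⟨fun h => hA.1 ?_, hY.stable Q (hu'.subset hQ) g hg A hA.2.1,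
        by rw [Set.ncard_smul_set]; exact hA.2.2⟩
      rw [← hcu Q hQ g hg] at h
      exact smul_left_cancel g h
    set E0 := R.filter (fun A => u ∩ A = ∅) with hE0
    set E1 := R.filter (fun A => ¬ u ∩ A = ∅) with hE1
    set Y' := E1.image (fun A => u ∩ A) with hY'
    set w : Set (Sylow p G) → ℕ := fun B => (E1.filter (fun A => u ∩ A = B)).card with hwdef
    have hE1st : ∀ Q ∈ u, ∀ g ∈ (Q : Subgroup G), ∀ A ∈ E1,
        g • A ∈ E1 ∧ u ∩ g • A = g • (u ∩ A) := by
      intro Q hQ g hg A hA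
      have he : u ∩ g • A = g • (u ∩ A) := by rw [Set.smul_set_inter, hcu Q hQ g hg]
      rw [hE1, Finset.mem_filter] at hA ⊢
      refine ⟨⟨hRst Q hQ g hg A hA.1, fun h => hA.2 ?_⟩, he⟩
      rw [he] at h
      exact Set.smul_set_eq_empty.1 h
    have hFam : Family u Y' := by
      refine ⟨fun B hB => ?_, fun B hB => ?_, fun B hB => ?_, fun Q hQ g hg B hB => ?_⟩
      all_goals obtain ⟨A, hA, rfl⟩ := Finset.mem_image.1 hB
      · exact huF.inter (hY.flat A (Finset.mem_filter.1 (Finset.mem_erase.1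
          (Finset.mem_filter.1 hA).1).2).1)
      · exact Set.nonempty_iff_ne_empty.2 (Finset.mem_filter.1 hA).2
      · obtain ⟨hAu, hAK⟩ := Finset.mem_erase.1 (Finset.mem_filter.1 hA).1
        refine ⟨Set.inter_subset_left, fun h => hAu ?_⟩
        exact (Set.eq_of_subset_of_ncard_le (fun x hx => (h hx).2)
          (Finset.mem_filter.1 hAK).2).symm
      · obtain ⟨h1, h2⟩ := hE1st Q hQ g hg A hA
        exact Finset.mem_image.2 ⟨g • A, h1, h2⟩
    have hwpos : ∀ B ∈ Y', 1 ≤ w B := by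
      intro B hB
      obtain ⟨A, hA, rfl⟩ := Finset.mem_image.1 hB
      exact Finset.card_pos.2 ⟨A, Finset.mem_filter.2 ⟨hA, rfl⟩⟩
    have hsum1 : deficit P' E1 = ∑ B ∈ Y', (w B : ℤ) * wt P' B := by
      unfold deficit
      rw [← Finset.sum_fiberwise_of_maps_to (t := Y') (g := fun A => u ∩ A)
        (fun A hA => Finset.mem_image_of_mem _ hA)]
      refine Finset.sum_congr rfl fun B _ => ?_
      have : ∀ A ∈ E1.filter (fun A => u ∩ A = B), wt P' A = wt P' B := by
        intro A hA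
        obtain ⟨-, rfl⟩ := Finset.mem_filter.1 hA
        unfold wt
        by_cases h : P' ∈ A
        · rw [if_pos h, if_pos ⟨hP'u, h⟩]
        · rw [if_neg h, if_neg (fun h' => h h'.2)]
      rw [Finset.sum_congr rfl this, Finset.sum_const, nsmul_eq_mul]
    have hgood : Good u := IH u huU huF
    have hY'le : deficit P' Y' ≤ deficit P' E1 := by
      have h := weighted_nonneg hgood hFam (fun B => w B - 1) (fun Q hQ g hg B _ => ?_) hP'u
      · rw [hsum1]
        have e : ∑ B ∈ Y', (w B : ℤ) * wt P' B =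
            deficit P' Y' + ∑ B ∈ Y', ((w B - 1 : ℕ) : ℤ) * wt P' B := by
          rw [deficit, ← Finset.sum_add_distrib]
          refine Finset.sum_congr rfl fun B hB => ?_
          rw [Nat.cast_sub (hwpos B hB)]
          push_cast
          ring
        linarith
      · apply Nat.sub_le_sub_right
        have himg : ∀ A ∈ E1.filter (fun A => u ∩ A = B),
            g • A ∈ E1.filter (fun A => u ∩ A = g • B) := by
          intro A hA
          obtain ⟨hA1, rfl⟩ := Finset.mem_filter.1 hA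
          exact Finset.mem_filter.2 (hE1st Q hQ g hg A hA1)
        exact Finset.card_le_card_of_injOn (fun A => g • A) himg
          fun A _ B _ h => smul_left_cancel g h
    have hY'0 : 0 ≤ deficit P' Y' := hgood Y' hFam P' hP'u
    have hRsplit : deficit P' E0 + deficit P' E1 = deficit P' R :=
      Finset.sum_filter_add_sum_filter_not R _ _
    have hOge : 2 ≤ O.card := by
      by_contra hlt'
      obtain ⟨A, hA, hnot⟩ := hemp P' hP'U
      exact hnot (Finset.card_le_one.1 (by omega) A hA u huO ▸ hP'u)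
    rcases E0.eq_empty_or_nonempty with h0 | ⟨A₀, hA₀⟩
    · have hE0z : deficit P' E0 = 0 := by rw [h0]; rfl
      have hOR : ∀ A ∈ O.erase u, A ∈ E1 := by
        intro A hA
        obtain ⟨hAu, hAO⟩ := Finset.mem_erase.1 hA
        have hAR : A ∈ R := Finset.mem_erase.2 ⟨hAu, Finset.mem_filter.2 ⟨hOY hAO, humax A hAO⟩⟩
        refine Finset.mem_filter.2 ⟨hAR, fun h => ?_⟩
        have : A ∈ E0 := Finset.mem_filter.2 ⟨hAR, h⟩
        rw [h0] at this
        exact Finset.notMem_empty A this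
      have hcard' : ((O.erase u).image (fun A => u ∩ A)).card ≤ O.card - 1 :=
        Finset.card_image_le.trans_eq (Finset.card_erase_of_mem huO)
      refine ih u Y' ((O.erase u).image (fun A => u ∩ A)) (j + 1) P' (by omega) huF huU.subset
        (Or.inl huU) hFam ?_ ?_ ?_ (by omega) hP'u ?_
      · intro B hB
        obtain ⟨A, hA, rfl⟩ := Finset.mem_image.1 hB
        exact Finset.mem_image_of_mem _ (hOR A hA)
      · refine Finset.Nonempty.image (Finset.card_pos.1 ?_) _
        rw [Finset.card_erase_of_mem huO]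
        omega
      · intro S hS
        obtain ⟨A, hA, hnot⟩ := hemp S (hu'.subset hS)
        exact ⟨u ∩ A, Finset.mem_image_of_mem _ (Finset.mem_erase.2
          ⟨fun h => hnot (h ▸ hS), hA⟩), fun h => hnot h.2⟩
      · push_cast
        linarith
    · have hA₀' := hA₀
      rw [hE0, Finset.mem_filter] at hA₀'
      have hA₀Y : A₀ ∈ Y := (Finset.mem_filter.1 (Finset.mem_erase.1 hA₀'.1).2).1
      have hnm : ∀ A ∈ E0, P' ∉ A := fun A hA h =>
        Set.eq_empty_iff_forall_notMem.1 (Finset.mem_filter.1 hA).2 P' ⟨hP'u, h⟩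
      have hp : p ≤ E0.card := by
        refine le_card_of_moved (hY.flat A₀ hA₀Y) (hY.ne A₀ hA₀Y) (hnm A₀ hA₀) E0
          fun g hg => ?_
        refine Finset.mem_filter.2 ⟨hRst P' hP'u g hg A₀ hA₀'.1, ?_⟩
        rw [← hcu P' hP'u g hg, ← Set.smul_set_inter, hA₀'.2, Set.smul_set_empty]
      have hval : deficit P' E0 = (E0.card : ℤ) * ((p : ℤ) - 1) := by
        unfold deficit
        rw [Finset.sum_congr rfl fun A hA => wt_of_not_mem (hnm A hA), Finset.sum_const,
          nsmul_eq_mul]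
      have h2 : (p : ℤ) * ((p : ℤ) - 1) ≤ deficit P' E0 := by
        rw [hval]
        refine mul_le_mul_of_nonneg_right (by exact_mod_cast hp) ?_
        have := (Fact.out : p.Prime).one_lt
        omega
      have h3 : ((j : ℤ) + 1) ≤ (p : ℤ) - 1 := by omega
      have h4 : (p : ℤ) * ((j : ℤ) + 1) ≤ (p : ℤ) * ((p : ℤ) - 1) :=
        mul_le_mul_of_nonneg_left h3 (by positivity)
      linarith

theorem isFlat_common {U : Set (Sylow p G)} (hU : IsFlat U) (O : Finset (Set (Sylow p G)))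
    (hO : ∀ A ∈ O, IsFlat A) : IsFlat {R | R ∈ U ∧ ∀ A ∈ O, R ∈ A} := by
  classical
  induction O using Finset.induction_on with
  | empty =>
    have : {R | R ∈ U ∧ ∀ A ∈ (∅ : Finset (Set (Sylow p G))), R ∈ A} = U := by ext; simp
    rwa [this]
  | @insert B O hB ih =>
    have : {R | R ∈ U ∧ ∀ A ∈ insert B O, R ∈ A} = {R | R ∈ U ∧ ∀ A ∈ O, R ∈ A} ∩ B := by
      ext R
      simp only [Set.mem_ofPred_eq, Finset.forall_mem_insert, Set.mem_inter_iff]
      tauto
    rw [this]
    exact (ih fun A hA => hO A (Finset.mem_insert_of_mem hA)).inter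
      (hO B (Finset.mem_insert_self B O))

/-- A moved point gives at most `p` translates with no Sylow subgroup in common. -/
theorem exists_short {U : Set (Sylow p G)} (hU : IsFlat U) {Y : Finset (Set (Sylow p G))}
    (hY : Family U Y) {y : Set (Sylow p G)} (hy : y ∈ Y) :
    ∃ O : Finset (Set (Sylow p G)), O ⊆ Y ∧ O.Nonempty ∧ O.card ≤ p ∧
      ∀ R ∈ U, ∃ A ∈ O, R ∉ A := by
  classical
  obtain ⟨Q, hQU, hQy⟩ := Set.exists_of_ssubset (hY.ssub y hy)
  obtain ⟨z, hz, hzy⟩ : ∃ z ∈ (Q : Subgroup G), z • y ≠ y := by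
    by_contra h
    push Not at h
    exact hQy (mem_of_stab (hY.flat y hy) (hY.ne y hy) h)
  obtain ⟨k, hk⟩ := Q.isPGroup' ⟨z, hz⟩
  have hk' : z ^ p ^ k = 1 := by simpa [Subtype.ext_iff] using hk
  have hex : ∃ i, z ^ p ^ i • y = y := ⟨k, by rw [hk', one_smul]⟩
  obtain ⟨i, hi⟩ : ∃ i, Nat.find hex = i + 1 := by
    refine Nat.exists_eq_succ_of_ne_zero fun h => hzy ?_
    have := Nat.find_spec hex
    rwa [h, pow_zero, pow_one] at this
  set g := z ^ p ^ i with hg
  have hgy : g • y ≠ y := Nat.find_min hex (by omega)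
  have hgp : g ^ p • y = y := by
    rw [hg, ← pow_mul, ← pow_succ, ← hi]
    exact Nat.find_spec hex
  have hgQ : g ∈ (Q : Subgroup G) := pow_mem hz _
  have hpp := (Fact.out : p.Prime).pos
  set O := (Finset.range p).image (fun m => g ^ m • y) with hOdef
  have hOY : O ⊆ Y := by
    intro B hB
    obtain ⟨m, -, rfl⟩ := Finset.mem_image.1 hB
    exact hY.stable Q hQU _ (pow_mem hgQ m) y hy
  have hyO : y ∈ O := Finset.mem_image.2 ⟨0, Finset.mem_range.2 hpp, by rw [pow_zero, one_smul]⟩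
  refine ⟨O, hOY, ⟨y, hyO⟩, Finset.card_image_le.trans_eq (Finset.card_range p), ?_⟩
  by_contra hne
  push Not at hne
  obtain ⟨R₀, hR₀U, hR₀⟩ := hne
  set C : Set (Sylow p G) := {R | R ∈ U ∧ ∀ A ∈ O, R ∈ A}
  have hgO : ∀ A ∈ O, g • A ∈ O := by
    intro A hA
    obtain ⟨m, hm, rfl⟩ := Finset.mem_image.1 hA
    rw [Finset.mem_range] at hm
    rw [← mul_smul, ← pow_succ']
    by_cases h : m + 1 < p
    · exact Finset.mem_image.2 ⟨m + 1, Finset.mem_range.2 h, rfl⟩
    · rw [show m + 1 = p by omega, hgp]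
      exact hyO
  have hgO' : O.image (fun A => g • A) = O := by
    refine Finset.eq_of_subset_of_card_le (fun B hB => ?_)
      (Finset.card_image_of_injective _ (MulAction.injective g)).ge
    obtain ⟨A, hA, rfl⟩ := Finset.mem_image.1 hB
    exact hgO A hA
  have hgC : g • C = C := by
    apply Set.eq_of_subset_of_ncard_le
    · rintro _ ⟨R, ⟨hRU, hRA⟩, rfl⟩
      refine ⟨by rw [← hU.smul_eq hQU hgQ]; exact Set.smul_mem_smul_set hRU, fun B hB => ?_⟩
      rw [← hgO'] at hB
      obtain ⟨A, hA, rfl⟩ := Finset.mem_image.1 hB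
      exact Set.smul_mem_smul_set (hRA A hA)
    · rw [Set.ncard_smul_set]
    · exact Set.toFinite _
  obtain ⟨R, ⟨hRU, hRA⟩, hle⟩ := exists_mem_le
    (isFlat_common hU O fun A hA => hY.flat A (hOY hA)) (show C.Nonempty from ⟨R₀, hR₀U, hR₀⟩)
    (Q.isPGroup'.to_le ((Subgroup.zpowers_le).2 hgQ) : IsPGroup p (Subgroup.zpowers g))
    (fun h hh => by
      have : Subgroup.zpowers g ≤ MulAction.stabilizer G C := Subgroup.zpowers_le.2 hgC
      exact this hh)
  exact hgy ((hY.flat y hy).smul_eq (hRA y hyO) (hle (Subgroup.mem_zpowers g)))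

/-- **The main inequality.** -/
theorem good (U : Set (Sylow p G)) (hU : IsFlat U) : Good U := by
  classical
  induction hn : U.ncard using Nat.strong_induction_on generalizing U with
  | _ n ih =>
    intro Y hY P hP
    by_contra hneg
    push Not at hneg
    obtain ⟨m, hm, hmlt⟩ : ∃ m ∈ Y.image Set.ncard,
        deficit P (Y.filter (fun A => A.ncard = m)) < 0 := by
      by_contra h
      push Not at h
      refine absurd hneg (not_lt.2 ?_)
      unfold deficit
      rw [← Finset.sum_fiberwise_of_maps_to (t := Y.image Set.ncard) (g := Set.ncard)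
        (fun A hA => Finset.mem_image_of_mem _ hA)]
      exact Finset.sum_nonneg h
    set Z := Y.filter (fun A => A.ncard = m) with hZ
    obtain ⟨y₀, hy₀, hy₀m⟩ := Finset.mem_image.1 hm
    have hyZ : y₀ ∈ Z := Finset.mem_filter.2 ⟨hy₀, hy₀m⟩
    have hFZ : Family U Z := by
      refine ⟨fun A hA => hY.flat A (Finset.mem_filter.1 hA).1,
        fun A hA => hY.ne A (Finset.mem_filter.1 hA).1,
        fun A hA => hY.ssub A (Finset.mem_filter.1 hA).1, fun Q hQ g hg A hA => ?_⟩
      rw [hZ, Finset.mem_filter] at hA ⊢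
      exact ⟨hY.stable Q hQ g hg A hA.1, by rw [Set.ncard_smul_set]; exact hA.2⟩
    obtain ⟨O, hOZ, hOne, hOp, hemp⟩ := exists_short hU hFZ hyZ
    refine no_chain (U := U) (fun U' hlt hf => ?_) O.card U Z O 0 P le_rfl hU (Set.Subset.refl U)
      (Or.inr fun A hA B hB => ?_) hFZ hOZ hOne hemp (by simpa using hOp) hP (by simpa using hmlt)
    · exact ih U'.ncard (hn ▸ Set.ncard_lt_ncard hlt) U' hf rfl
    · rw [(Finset.mem_filter.1 hA).2, (Finset.mem_filter.1 hB).2]

/-- The inequality for weighted families below the set of all Sylow subgroups. -/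
theorem deficit_nonneg_univ (Y : Finset (Set (Sylow p G)))
    (hflat : ∀ A ∈ Y, IsFlat A) (hne : ∀ A ∈ Y, A.Nonempty) (htop : ∀ A ∈ Y, A ≠ Set.univ)
    (hst : ∀ g : G, ∀ A ∈ Y, g • A ∈ Y) (w : Set (Sylow p G) → ℕ)
    (hw : ∀ g : G, ∀ A ∈ Y, w A ≤ w (g • A)) (P : Sylow p G) :
    0 ≤ ∑ A ∈ Y, (w A : ℤ) * wt P A :=
  weighted_nonneg (good Set.univ ⟨⊤, (Set.eq_univ_of_forall (s := flat ⊤) fun Q => show (Q : Subgroup G) ≤ ⊤ from le_top).symm⟩)
    ⟨hflat, hne, fun A hA => Set.ssubset_univ_iff.2 (htop A hA), fun _ _ g _ => hst g⟩ w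
    (fun _ _ g _ => hw g) (Set.mem_univ P)

end CfsgLib.SylowFlats
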