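import Cfsg.Agent.Lib.SylowFlats.Basic
import Mathlib.GroupTheory.GroupAction.Basic

/-!
# Two disjoint subsets stabilized by no Sylow subgroup
-/

set_option autoImplicit false
set_option linter.unusedSectionVars false
set_option linter.style.haveILetI false

namespace CfsgLib.SylowFlats

open Pointwise

variable {G : Type*} [Group G] [Finite G] {p : ℕ} [Fact p.Prime] {Ω : Type*} [MulAction G Ω]
  [Finite Ω]

/-- A moved point gives a set of at most `p` points fixed by no Sylow subgroup. -/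
theorem exists_short_orbit {g₀ : G} (hg₀ : ∃ k : ℕ, g₀ ^ p ^ k = 1) {x : Ω} (hx : g₀ • x ≠ x) :
    ∃ O : Finset Ω, x ∈ O ∧ 2 ≤ O.card ∧ O.card ≤ p ∧
      ∀ P : Sylow p G, ∃ y ∈ O, ∃ h ∈ (P : Subgroup G), h • y ≠ y := by
  classical
  obtain ⟨k, hk⟩ := hg₀
  have hex : ∃ i, g₀ ^ p ^ i • x = x := ⟨k, by rw [hk, one_smul]⟩
  obtain ⟨i, hi⟩ : ∃ i, Nat.find hex = i + 1 := by
    refine Nat.exists_eq_succ_of_ne_zero fun h => hx ?_
    have := Nat.find_spec hex
    rwa [h, pow_zero, pow_one] at this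
  set g := g₀ ^ p ^ i with hg
  have hgx : g • x ≠ x := Nat.find_min hex (by omega)
  have hgp : g ^ p • x = x := by
    rw [hg, ← pow_mul, ← pow_succ, ← hi]
    exact Nat.find_spec hex
  have hp2 := (Fact.out : p.Prime).two_le
  set O := (Finset.range p).image (fun m => g ^ m • x) with hOdef
  have hxO : x ∈ O := Finset.mem_image.2 ⟨0, Finset.mem_range.2 (by omega), by rw [pow_zero, one_smul]⟩
  have hgxO : g • x ∈ O := Finset.mem_image.2 ⟨1, Finset.mem_range.2 (by omega), by rw [pow_one]⟩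
  refine ⟨O, hxO, Finset.one_lt_card.2 ⟨g • x, hgxO, x, hxO, hgx⟩,
    Finset.card_image_le.trans_eq (Finset.card_range p), ?_⟩
  by_contra hcon
  push Not at hcon
  obtain ⟨P, hP⟩ := hcon
  set K : Subgroup G := ⨅ y ∈ O, MulAction.stabilizer G y with hK
  have hmemK : ∀ h : G, h ∈ K ↔ ∀ y ∈ O, h • y = y := fun h => by
    simp only [hK, Subgroup.mem_iInf, MulAction.mem_stabilizer_iff]
  have hPK : P ∈ (flat K : Set (Sylow p G)) := fun h hh => (hmemK h).2 fun y hy => hP y hy h hh
  have hgO : ∀ y ∈ O, g • y ∈ O := by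
    intro y hy
    obtain ⟨m, hm, rfl⟩ := Finset.mem_image.1 hy
    rw [Finset.mem_range] at hm
    rw [← mul_smul, ← pow_succ']
    by_cases h : m + 1 < p
    · exact Finset.mem_image.2 ⟨m + 1, Finset.mem_range.2 h, rfl⟩
    · rw [show m + 1 = p by omega, hgp]
      exact hxO
  have hgK : g • (flat K : Set (Sylow p G)) = flat K := by
    apply Set.eq_of_subset_of_ncard_le
    · rintro _ ⟨R, hR, rfl⟩
      intro h hh
      rw [Sylow.coe_subgroup_smul] at hh
      obtain ⟨h', hh', rfl⟩ := hh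
      rw [hmemK]
      intro y hy
      obtain ⟨y', hy', rfl⟩ : ∃ y' ∈ O, g • y' = y := by
        have himg : O.image (fun z => g • z) = O :=
          Finset.eq_of_subset_of_card_le (fun z hz => by
            obtain ⟨w, hw, rfl⟩ := Finset.mem_image.1 hz
            exact hgO w hw) (Finset.card_image_of_injective _ (MulAction.injective g)).ge
        rw [← himg] at hy
        exact Finset.mem_image.1 hy
      have := (hmemK h').1 (hR hh') y' hy'
      simp [mul_smul, this]
    · rw [Set.ncard_smul_set]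
    · exact Set.toFinite _
  have hgen : IsPGroup p (Subgroup.zpowers g) := by
    rintro ⟨z, hz⟩
    obtain ⟨n, rfl⟩ := Subgroup.mem_zpowers_iff.1 hz
    refine ⟨k, Subtype.ext ?_⟩
    show (g ^ n) ^ p ^ k = 1
    rw [← zpow_natCast, zpow_comm, zpow_natCast, hg, ← pow_mul, mul_comm, pow_mul, hk, one_pow,
      one_zpow]
  obtain ⟨R, hR, hle⟩ := exists_mem_le ⟨K, rfl⟩ ⟨P, hPK⟩ hgen
    (fun h hh => (Subgroup.zpowers_le.2 (show g ∈ MulAction.stabilizer G
      (flat K : Set (Sylow p G)) from hgK)) hh)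
  exact hgx ((hmemK g).1 (hR (hle (Subgroup.mem_zpowers g))) x hxO)

/-- A `p`-group stabilizing fewer than `p` points setwise fixes each of them. -/
theorem fix_of_small {P : Subgroup G} (hP : IsPGroup p P) {S : Set Ω} (hS : S.ncard < p)
    (hstab : ∀ h ∈ P, h • S = S) {y : Ω} (hy : y ∈ S) : ∀ h ∈ P, h • y = y := by
  obtain ⟨k, hk⟩ := hP.card_orbit y
  have hsub : MulAction.orbit P y ⊆ S := by
    rintro _ ⟨h, rfl⟩
    rw [← hstab h h.2]
    exact Set.smul_mem_smul_set hy
  have hle := Set.ncard_le_ncard hsub (Set.toFinite S)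
  rw [← Nat.card_coe_set_eq, hk] at hle
  rcases Nat.eq_zero_or_pos k with rfl | hk0
  · intro h hh
    rw [pow_zero, Nat.card_coe_set_eq, Set.ncard_eq_one] at hk
    obtain ⟨b, hb⟩ := hk
    have h1 : h • y ∈ MulAction.orbit P y := ⟨⟨h, hh⟩, rfl⟩
    have h2 : y ∈ MulAction.orbit P y := MulAction.mem_orbit_self y
    rw [hb] at h1 h2
    exact h1.trans h2.symm
  · have : p ^ 1 ≤ p ^ k := Nat.pow_le_pow_right (Fact.out : p.Prime).pos hk0
    rw [pow_one] at this
    omega

/-- The joint stabilizer of suitable disjoint sets has index divisible by `p`. -/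
theorem exists_pair {g₀ : G} (hg₀ : ∃ k : ℕ, g₀ ^ p ^ k = 1) {x : Ω} (hx : g₀ • x ≠ x) :
    ∃ Δ₁ Δ₂ : Set Ω, Δ₁.Nonempty ∧ Δ₂.Nonempty ∧ Disjoint Δ₁ Δ₂ ∧
      p ∣ (MulAction.stabilizer G Δ₁ ⊓ MulAction.stabilizer G Δ₂).index := by
  classical
  obtain ⟨O, hxO, h2, hle, hP⟩ := exists_short_orbit hg₀ hx
  refine ⟨{x}, ↑(O.erase x), Set.singleton_nonempty x, ?_, ?_, ?_⟩
  · rw [Finset.coe_nonempty, ← Finset.card_pos, Finset.card_erase_of_mem hxO]
    omega
  · rw [Set.disjoint_singleton_left]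
    simp
  · by_contra hnd
    set H := MulAction.stabilizer G ({x} : Set Ω) ⊓
      MulAction.stabilizer G ((↑(O.erase x) : Set Ω)) with hH
    obtain ⟨P⟩ : Nonempty (Sylow p H) := inferInstance
    obtain ⟨Q, hQ⟩ := (P.isPGroup'.map H.subtype).exists_le_sylow
    have hcard : Nat.card ((P : Subgroup H).map H.subtype) = Nat.card Q := by
      rw [Subgroup.card_map_of_injective Subtype.val_injective, Sylow.card_eq_multiplicity,
        Sylow.card_eq_multiplicity, ← Subgroup.card_mul_index H,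
        Nat.factorization_mul Nat.card_pos.ne' (Subgroup.index_ne_zero_of_finite),
        Finsupp.add_apply, Nat.factorization_eq_zero_of_not_dvd hnd, add_zero]
    have hQH : (Q : Subgroup G) ≤ H := by
      rw [← Subgroup.eq_of_le_of_card_ge hQ hcard.ge]
      exact Subgroup.map_subtype_le _
    obtain ⟨y, hy, h, hh, hne⟩ := hP Q
    refine hne ?_
    by_cases hyx : y = x
    · have h1 : h • ({x} : Set Ω) = {x} := (hQH hh).1
      rw [Set.smul_set_singleton, Set.singleton_eq_singleton_iff] at h1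
      rw [hyx, h1]
    · refine fix_of_small Q.isPGroup' ?_ (fun g hg => (hQH hg).2)
        (show y ∈ (↑(O.erase x) : Set Ω) from Finset.mem_coe.2 (Finset.mem_erase.2 ⟨hyx, hy⟩))
        h hh
      rw [Set.ncard_coe_finset, Finset.card_erase_of_mem hxO]
      omega

end CfsgLib.SylowFlats
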